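import Mathlib
import Groth.Prelude.Def_QCohCat
import Groth.Prelude.Def_DDual2
import Groth.Agent.Lib.Helper5.DirImg.Colim
import Groth.Agent.Lib.Helper5.QC.AffColim
import Groth.Agent.Lib.Helper3.SHomEx
import Groth.Agent.Lib.Lead.TilT5
import Groth.Agent.Lib.Lead.PBQc

/-!
# Fourier–Mukai functors on quasi-coherent modules with affine second projection are cocontinuous
(helper5)
-/
set_option autoImplicit false
set_option linter.unusedSectionVars false
set_option linter.unusedVariables false
set_option linter.style.haveILetI false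
universe u
open CategoryTheory CategoryTheory.Limits AlgebraicGeometry

namespace Groth.Agent.Lib.Helper5.FMQ

open Groth.Agent.Helper1 Groth.Agent.Lib.Helper5.QC

variable {X : Scheme.{u}}

/-- a small colimit of quasi-coherent modules is quasi-coherent -/
theorem isQuasicoherent_colimit {J : Type u} [SmallCategory J] (D : J ⥤ X.Modules)
    (hD : ∀ j, (D.obj j).IsQuasicoherent) : (colimit D).IsQuasicoherent := by
  refine QCohLib.isQuasicoherent_of_affine_charts _ (I := X.affineOpens)
    (fun V => Γ(X, V.1)) (fun V => V.2.fromSpec) Groth.Agent.Lead.TilT.iSup_opensRange_fromSpec ?_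
  rintro ⟨V, hV⟩
  haveI : (Scheme.Modules.restrictFunctor hV.fromSpec).IsLeftAdjoint :=
    ⟨_, ⟨(Scheme.Modules.pullbackPushforwardAdjunction hV.fromSpec).ofNatIsoLeft
      (Scheme.Modules.restrictFunctorIsoPullback hV.fromSpec).symm⟩⟩
  have hc : IsColimit ((Scheme.Modules.restrictFunctor hV.fromSpec).mapCocone (colimit.cocone D)) :=
    isColimitOfPreserves _ (colimit.isColimit D)
  haveI : PreservesColimitsOfSize.{u, u} (tilde.functor Γ(X, V)) :=
    (tilde.adjunction (R := Γ(X, V))).leftAdjoint_preservesColimits
  haveI : ∀ j, ((D ⋙ Scheme.Modules.restrictFunctor hV.fromSpec).obj j).IsQuasicoherent :=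
    fun j => by haveI := hD j; show ((D.obj j).restrict hV.fromSpec).IsQuasicoherent; infer_instance
  haveI : ((colimit D).restrict hV.fromSpec).IsQuasicoherent :=
    isQuasicoherent_of_isColimit_affine (R := Γ(X, V))
      (D ⋙ Scheme.Modules.restrictFunctor hV.fromSpec) (fun j => inferInstance) _ hc
  infer_instance

/-- the inclusion of the quasi-coherent modules preserves small colimits -/
theorem preservesColimit_ι {J : Type u} [SmallCategory J] (D : J ⥤ QCohCat.QCoh X) :
    PreservesColimit D (QCohCat.isQCoh X).ι := by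
  haveI : CreatesColimit D (QCohCat.isQCoh X).ι :=
    createsColimitFullSubcategoryInclusion D
      (isQuasicoherent_colimit (D ⋙ (QCohCat.isQCoh X).ι) (fun j => (D.obj j).property))
  exact preservesColimit_of_createsColimit_and_hasColimit D _

/-- `- ⊗ K` is a left adjoint -/
theorem isLeftAdjoint_tensorRightMod (K : X.Modules) : (DCoh.tensorRightMod K).IsLeftAdjoint := by
  haveI h : ((ModSite.tensorBi X.sheaf).flip.obj K).IsLeftAdjoint :=
    Groth.Agent.Helper3.SHomEx.hasSheafHom (O := X.sheaf) K
  let e : (ModSite.tensorBi X.sheaf).flip.obj K ≅ DCoh.tensorRightMod K :=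
    NatIso.ofComponents (fun M => Iso.refl _) (by
      intro M M' f
      rfl)
  exact @Functor.isLeftAdjoint_of_iso _ _ _ _ _ _ e h

/-- **the Fourier–Mukai functor with quasi-coherent kernel and affine second projection
preserves small colimits of quasi-coherent modules** -/
theorem preservesColimit_FM {P Y : Scheme.{u}} (p₁ : P ⟶ X) (p₂ : P ⟶ Y) [IsAffineHom p₂]
    (K : P.Modules) [K.IsQuasicoherent] {J : Type u} [SmallCategory J]
    (D : J ⥤ QCohCat.QCoh X) :
    PreservesColimit D ((QCohCat.isQCoh X).ι ⋙ Scheme.Modules.pullback p₁ ⋙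
      DCoh.tensorRightMod K ⋙ Coh.push p₂) := by
  haveI := preservesColimit_ι D
  haveI : PreservesColimitsOfSize.{u, u} (Scheme.Modules.pullback p₁) :=
    (Scheme.Modules.pullbackPushforwardAdjunction p₁).leftAdjoint_preservesColimits
  haveI := isLeftAdjoint_tensorRightMod K
  haveI : PreservesColimitsOfSize.{u, u} (DCoh.tensorRightMod K) :=
    (Adjunction.ofIsLeftAdjoint (DCoh.tensorRightMod K)).leftAdjoint_preservesColimits
  haveI : PreservesColimit (((D ⋙ (QCohCat.isQCoh X).ι) ⋙ Scheme.Modules.pullback p₁) ⋙
      DCoh.tensorRightMod K) (Coh.push p₂) := by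
    refine Groth.Agent.Lib.Helper5.DirImg.preservesColimit_pushforward p₂ _ (fun j => ?_)
    haveI : ((D.obj j).obj).IsQuasicoherent := (D.obj j).property
    haveI : ((Scheme.Modules.pullback p₁).obj (D.obj j).obj).IsQuasicoherent :=
      Groth.Agent.Lead.PB.isQuasicoherent_pullback p₁ _
    show (CohB1.tensorMod ((Scheme.Modules.pullback p₁).obj (D.obj j).obj) K).IsQuasicoherent
    infer_instance
  infer_instance

end Groth.Agent.Lib.Helper5.FMQ
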