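import Mathlib
import Groth.Agent.Lib.Helper5.FMQ.RightExact
import Groth.Agent.Lib.Helper5.BC.BcM
import Groth.Agent.Lib.Helper4.PullTensorIso

/-!
# Base change of Fourier–Mukai functors on quasi-coherent modules along the target (helper5)
-/
set_option autoImplicit false
set_option linter.unusedSectionVars false
set_option linter.unusedVariables false
set_option linter.style.haveILetI false
set_option backward.isDefEq.respectTransparency.types false
universe u
open CategoryTheory CategoryTheory.Limits AlgebraicGeometry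

namespace Groth.Agent.Lib.Helper5.FMQ

open Groth.Agent.Lib.Helper5.BC

/-- `- ⊗ K` as the flip of the tensor bifunctor -/
noncomputable def trmIso {X : Scheme.{u}} (K : X.Modules) :
    (ModSite.tensorBi X.sheaf).flip.obj K ≅ DCoh.tensorRightMod K :=
  NatIso.ofComponents (fun M => Iso.refl _) (by
    intro M M' f
    rfl)

/-- helper4's comparison as a natural isomorphism -/
noncomputable def tauIso {P' P : Scheme.{u}} (h : P' ⟶ P) (K : P.Modules) :
    (ModSite.tensorBi P.sheaf).flip.obj K ⋙ (ModSite.RMor.ofScheme h).pull ≅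
      (ModSite.RMor.ofScheme h).pull ⋙
        (ModSite.tensorBi P'.sheaf).flip.obj ((ModSite.RMor.ofScheme h).pull.obj K) :=
  NatIso.ofComponents
    (fun M => @asIso _ _ _ _
      ((Groth.Agent.Lib.Helper4.PullTensorIso.τN (ModSite.RMor.ofScheme h) K).app M)
      (Groth.Agent.Lib.Helper4.PullTensorIso.isIso_δ (ModSite.RMor.ofScheme h) M K))
    (fun φ => (Groth.Agent.Lib.Helper4.PullTensorIso.τN (ModSite.RMor.ofScheme h) K).naturality φ)

/-- pullback commutes with `- ⊗ K`, naturally -/
noncomputable def pullTensorRightIso {P' P : Scheme.{u}} (h : P' ⟶ P) (K : P.Modules) :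
    DCoh.tensorRightMod K ⋙ Scheme.Modules.pullback h ≅
      Scheme.Modules.pullback h ⋙ DCoh.tensorRightMod ((Scheme.Modules.pullback h).obj K) :=
  Functor.isoWhiskerRight (trmIso K).symm (Scheme.Modules.pullback h) ≪≫
    tauIso h K ≪≫
    Functor.isoWhiskerLeft (Scheme.Modules.pullback h) (trmIso ((Scheme.Modules.pullback h).obj K))

variable {X Y Y' S : Scheme.{u}}

/-- the Fourier–Mukai functor (before the direct image) takes quasi-coherent values -/
theorem isQuasicoherent_FM_pre {P : Scheme.{u}} (p₁ : P ⟶ X) (K : P.Modules) [K.IsQuasicoherent]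
    (M : QCohCat.QCoh X) :
    (((QCohCat.isQCoh X).ι ⋙ Scheme.Modules.pullback p₁ ⋙ DCoh.tensorRightMod K).obj
      M).IsQuasicoherent := by
  haveI : (M.obj).IsQuasicoherent := M.property
  haveI : ((Scheme.Modules.pullback p₁).obj M.obj).IsQuasicoherent :=
    Groth.Agent.Lead.PB.isQuasicoherent_pullback p₁ _
  show (CohB1.tensorMod ((Scheme.Modules.pullback p₁).obj M.obj) K).IsQuasicoherent
  infer_instance

/-- **base change of a Fourier–Mukai functor with affine second projection along `g : Y' ⟶ Y`** -/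
theorem nonempty_pullback_comp_FM_iso (a : X ⟶ S) (b : Y ⟶ S) [IsAffineHom a]
    (K : (pullback a b).Modules) [K.IsQuasicoherent] (g : Y' ⟶ Y)
    (h : pullback a (g ≫ b) ⟶ pullback a b)
    (hh₁ : h ≫ pullback.fst a b = pullback.fst a (g ≫ b))
    (hh₂ : h ≫ pullback.snd a b = pullback.snd a (g ≫ b) ≫ g) :
    Nonempty (((QCohCat.isQCoh X).ι ⋙ Scheme.Modules.pullback (pullback.fst a b) ⋙
        DCoh.tensorRightMod K ⋙ Coh.push (pullback.snd a b)) ⋙ Scheme.Modules.pullback g ≅
      (QCohCat.isQCoh X).ι ⋙ (Scheme.Modules.pullback (pullback.fst a (g ≫ b)) ⋙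
        DCoh.tensorRightMod ((Scheme.Modules.pullback h).obj K) ⋙
          Coh.push (pullback.snd a (g ≫ b)))) := by
  have hsq : IsPullback h (pullback.snd a (g ≫ b)) (pullback.snd a b) g := by
    have s : IsPullback (h ≫ pullback.fst a b) (pullback.snd a (g ≫ b)) a (g ≫ b) := by
      rw [hh₁]
      exact IsPullback.of_hasPullback a (g ≫ b)
    exact IsPullback.of_right s hh₂ (IsPullback.of_hasPullback a b)
  haveI : IsAffineHom (pullback.snd a b) := MorphismProperty.pullback_snd _ _ ‹_›
  let A : QCohCat.QCoh X ⥤ (pullback a b).Modules :=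
    (QCohCat.isQCoh X).ι ⋙ Scheme.Modules.pullback (pullback.fst a b) ⋙ DCoh.tensorRightMod K
  haveI : ∀ M, IsIso ((bcM hsq.w).app (A.obj M)) := fun M => by
    haveI := isQuasicoherent_FM_pre (pullback.fst a b) K M
    exact isIso_bcM_app hsq (A.obj M)
  let e₁ : (A ⋙ Coh.push (pullback.snd a b)) ⋙ Scheme.Modules.pullback g ≅
      (A ⋙ Scheme.Modules.pullback h) ⋙ Coh.push (pullback.snd a (g ≫ b)) :=
    NatIso.ofComponents (fun M => asIso ((bcM hsq.w).app (A.obj M)))
      (fun f => (bcM hsq.w).naturality (A.map f))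
  let e₂ : A ⋙ Scheme.Modules.pullback h ≅
      (QCohCat.isQCoh X).ι ⋙ Scheme.Modules.pullback (pullback.fst a (g ≫ b)) ⋙
        DCoh.tensorRightMod ((Scheme.Modules.pullback h).obj K) :=
    Functor.isoWhiskerLeft ((QCohCat.isQCoh X).ι ⋙ Scheme.Modules.pullback (pullback.fst a b))
        (pullTensorRightIso h K) ≪≫
      Functor.isoWhiskerLeft (QCohCat.isQCoh X).ι
        (Functor.isoWhiskerRight (pc' h (pullback.fst a b) (pullback.fst a (g ≫ b)) hh₁)
          (DCoh.tensorRightMod ((Scheme.Modules.pullback h).obj K)))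
  exact ⟨e₁ ≪≫ Functor.isoWhiskerRight e₂ (Coh.push (pullback.snd a (g ≫ b)))⟩

end Groth.Agent.Lib.Helper5.FMQ
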