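import Mathlib
import Groth.Agent.Lib.Helper5.FMQ.FlatPull
import Groth.Agent.Lib.Helper5.FBC.PiAff
import Groth.Agent.Lib.Helper5.ProjF.PiNat

/-!
# Fourier–Mukai functors on quasi-coherent modules composed with an affine direct image (helper5)
-/
set_option autoImplicit false
set_option linter.unusedSectionVars false
set_option linter.unusedVariables false
set_option linter.style.haveILetI false
set_option backward.isDefEq.respectTransparency.types false
universe u
open CategoryTheory CategoryTheory.Limits AlgebraicGeometry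

namespace Groth.Agent.Lib.Helper5.FMQ

open Groth.Agent.Lib.Helper5.BC Groth.Agent.Lib.Helper5.ProjF Groth.Agent.Lib.Helper5.FBC

/-- the projection formula map as a natural transformation in the variable upstairs -/
noncomputable def piNat {Z' Z : Scheme.{u}} (g : Z' ⟶ Z) (K : Z.Modules) :
    Scheme.Modules.pushforward g ⋙ DCoh.tensorRightMod K ⟶
      DCoh.tensorRightMod ((Scheme.Modules.pullback g).obj K) ⋙ Scheme.Modules.pushforward g where
  app N := piMap g N K
  naturality N N' φ := piMap_naturality_left g φ K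

variable {X Y S : Scheme.{u}}

/-- **a Fourier–Mukai functor on quasi-coherent modules composed with an affine direct image is
the Fourier–Mukai functor of the pulled back kernel** -/
theorem nonempty_push_comp_FM_iso (a : X ⟶ S) (b : Y ⟶ S)
    (K : (pullback a b).Modules) [K.IsQuasicoherent]
    {X' : Scheme.{u}} (f : X' ⟶ X) [IsAffineHom f]
    (g : pullback (f ≫ a) b ⟶ pullback a b)
    (hg₁ : g ≫ pullback.fst a b = pullback.fst (f ≫ a) b ≫ f)
    (hg₂ : g ≫ pullback.snd a b = pullback.snd (f ≫ a) b) :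
    Nonempty ((QCohCat.isQCoh X').ι ⋙ Coh.push f ⋙ (Scheme.Modules.pullback (pullback.fst a b) ⋙
        DCoh.tensorRightMod K ⋙ Coh.push (pullback.snd a b)) ≅
      (QCohCat.isQCoh X').ι ⋙ (Scheme.Modules.pullback (pullback.fst (f ≫ a) b) ⋙
        DCoh.tensorRightMod ((Scheme.Modules.pullback g).obj K) ⋙
          Coh.push (pullback.snd (f ≫ a) b))) := by
  have hsq : IsPullback g (pullback.fst (f ≫ a) b) (pullback.fst a b) f := by
    have s : IsPullback (g ≫ pullback.snd a b) (pullback.fst (f ≫ a) b) b (f ≫ a) := by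
      rw [hg₂]
      exact (IsPullback.of_hasPullback (f ≫ a) b).flip
    exact IsPullback.of_right s hg₁ (IsPullback.of_hasPullback a b).flip
  haveI : IsAffineHom g := MorphismProperty.of_isPullback (P := @IsAffineHom) hsq.flip ‹_›
  haveI : ∀ M : QCohCat.QCoh X', IsIso ((bcM hsq.flip.w).app M.obj) := fun M => by
    haveI : (M.obj).IsQuasicoherent := M.property
    exact isIso_bcM_app hsq.flip M.obj
  let e₁ : (QCohCat.isQCoh X').ι ⋙ Coh.push f ⋙ Scheme.Modules.pullback (pullback.fst a b) ≅
      (QCohCat.isQCoh X').ι ⋙ Scheme.Modules.pullback (pullback.fst (f ≫ a) b) ⋙ Coh.push g :=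
    NatIso.ofComponents (fun M => asIso ((bcM hsq.flip.w).app M.obj))
      (fun φ => (bcM hsq.flip.w).naturality ((QCohCat.isQCoh X').ι.map φ))
  let B : QCohCat.QCoh X' ⥤ (pullback (f ≫ a) b).Modules :=
    (QCohCat.isQCoh X').ι ⋙ Scheme.Modules.pullback (pullback.fst (f ≫ a) b)
  haveI : ∀ M : QCohCat.QCoh X', IsIso ((piNat g K).app (B.obj M)) := fun M => by
    haveI : (M.obj).IsQuasicoherent := M.property
    haveI : (B.obj M).IsQuasicoherent :=
      Groth.Agent.Lead.PB.isQuasicoherent_pullback (pullback.fst (f ≫ a) b) M.obj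
    exact isIso_piMap_of_isAffineHom g (B.obj M) K
  let e₂ : B ⋙ Coh.push g ⋙ DCoh.tensorRightMod K ≅
      B ⋙ DCoh.tensorRightMod ((Scheme.Modules.pullback g).obj K) ⋙ Coh.push g :=
    NatIso.ofComponents (fun M => asIso ((piNat g K).app (B.obj M)))
      (fun φ => (piNat g K).naturality (B.map φ))
  let e₃ : Coh.push g ⋙ Coh.push (pullback.snd a b) ≅ Coh.push (pullback.snd (f ≫ a) b) :=
    Scheme.Modules.pushforwardComp g (pullback.snd a b) ≪≫ Scheme.Modules.pushforwardCongr hg₂
  let E₁ : (QCohCat.isQCoh X').ι ⋙ Coh.push f ⋙ (Scheme.Modules.pullback (pullback.fst a b) ⋙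
        DCoh.tensorRightMod K ⋙ Coh.push (pullback.snd a b)) ≅
      (B ⋙ Coh.push g ⋙ DCoh.tensorRightMod K) ⋙ Coh.push (pullback.snd a b) :=
    Functor.isoWhiskerRight e₁ (DCoh.tensorRightMod K ⋙ Coh.push (pullback.snd a b))
  let E₂ : (B ⋙ Coh.push g ⋙ DCoh.tensorRightMod K) ⋙ Coh.push (pullback.snd a b) ≅
      (B ⋙ DCoh.tensorRightMod ((Scheme.Modules.pullback g).obj K)) ⋙
        (Coh.push g ⋙ Coh.push (pullback.snd a b)) :=
    Functor.isoWhiskerRight e₂ (Coh.push (pullback.snd a b))
  let E₃ : (B ⋙ DCoh.tensorRightMod ((Scheme.Modules.pullback g).obj K)) ⋙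
        (Coh.push g ⋙ Coh.push (pullback.snd a b)) ≅
      (QCohCat.isQCoh X').ι ⋙ (Scheme.Modules.pullback (pullback.fst (f ≫ a) b) ⋙
        DCoh.tensorRightMod ((Scheme.Modules.pullback g).obj K) ⋙
          Coh.push (pullback.snd (f ≫ a) b)) :=
    Functor.isoWhiskerLeft (B ⋙ DCoh.tensorRightMod ((Scheme.Modules.pullback g).obj K)) e₃
  exact ⟨E₁ ≪≫ E₂ ≪≫ E₃⟩

end Groth.Agent.Lib.Helper5.FMQ
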