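import Mathlib
import Groth.Agent.Lib.Helper5.FMQ.AffPush
import Groth.Agent.Lib.Helper5.Stalk.FlatPull
import Groth.Agent.Lib.Helper5.StalkTen.StalkTenS
import Groth.Agent.Lib.Helper5.StalkTen.StalkTot
import Groth.Agent.Lib.Helper5.RpushPerf.TenG1
import Groth.Agent.Lib.Helper3.ProjForm
import Groth.Agent.Lib.Helper1.LowDeg1
import Groth.Agent.Lib.Helper4.QCohAb1

/-!
# Exactness of the Fourier–Mukai functor of a flat, acyclic kernel (helper5)
-/
set_option autoImplicit false
set_option linter.unusedSectionVars false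
set_option linter.unusedVariables false
set_option linter.style.haveILetI false
set_option backward.isDefEq.respectTransparency.types false
universe u
open CategoryTheory CategoryTheory.Limits MonoidalCategory AlgebraicGeometry

namespace Groth.Agent.Lib.Helper5.FMQ

open Groth.Agent.Lib.Helper5.StalkAdj Groth.Agent.Lib.Helper5.StalkTenS
  Groth.Agent.Lib.Helper5.StalkTot
  Groth.Agent.Lib.Helper4.QCohAb1

section Ring

variable {R S : Type u} [CommRing R] [CommRing S] (g : R →+* S)

/-- `(S ⊗_R -) ⊗_S N` preserves monomorphisms when `N` is flat over `R` -/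
theorem mono_extendScalars_whiskerRight (N : ModuleCat.{u} S)
    (hN : Module.Flat R ((ModuleCat.restrictScalars.{u} g).obj N))
    {A B : ModuleCat.{u} R} (φ : A ⟶ B) [Mono φ] :
    Mono ((ModuleCat.extendScalars.{u, u, u} g).map φ ▷ N) := by
  have hnat := (Groth.Agent.Helper3.ProjForm.projIso g N).hom.naturality φ
  have h1 : Mono ((tensorRight ((ModuleCat.restrictScalars.{u} g).obj N)).map φ) := by
    rw [ModuleCat.mono_iff_injective]
    have hinj : Function.Injective φ.hom := (ModuleCat.mono_iff_injective _).1 inferInstance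
    show Function.Injective (φ ▷ (ModuleCat.restrictScalars.{u} g).obj N).hom
    rw [ModuleCat.hom_whiskerRight]
    exact Module.Flat.rTensor_preserves_injective_linearMap φ.hom hinj
  have h3 : Mono ((ModuleCat.extendScalars.{u, u, u} g ⋙ tensorRight N ⋙
      ModuleCat.restrictScalars.{u} g).map φ ≫
      (Groth.Agent.Helper3.ProjForm.projIso g N).hom.app B) := by
    rw [hnat]
    exact @mono_comp _ _ _ _ _ _ (IsIso.mono_of_iso _) _ h1
  have h2 : Mono ((ModuleCat.extendScalars.{u, u, u} g ⋙ tensorRight N ⋙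
      ModuleCat.restrictScalars.{u} g).map φ) := @mono_of_mono _ _ _ _ _ _ _ h3
  exact (ModuleCat.restrictScalars.{u} g).mono_of_mono_map h2

end Ring

section Geo

variable {Z X : Scheme.{u}} (p : Z ⟶ X) (K : Z.Modules)

/-- `M ↦ p^* M ⊗ K` preserves monomorphisms when `K` is flat over `X` -/
theorem mono_tensor_pullback_of_isFlatOver (hK : FlatMod.IsFlatOver p K)
    {M' M : X.Modules} (φ : M' ⟶ M) [Mono φ] :
    Mono ((DCoh.tensorRightMod K).map ((Scheme.Modules.pullback p).map φ)) := by
  apply mono_of_stalks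
  intro z
  have hGz : Module.Flat (X.presheaf.stalk (p.base z)) ((DerSch.stalkOver p z).obj K) := hK z
  let eG : (DerSch.stalkOver p z).obj K ≅
      (ModuleCat.restrictScalars (p.stalkMap z).hom).obj ((stalkSh Z z).obj K) :=
    (ModuleCat.restrictScalars (p.stalkMap z).hom).mapIso ((stalkFunctorIso Z z).app K)
  have hKz : Module.Flat (X.presheaf.stalk (p.base z))
      ((ModuleCat.restrictScalars (p.stalkMap z).hom).obj ((stalkSh Z z).obj K)) :=
    Module.Flat.of_linearEquiv eG.symm.toLinearEquiv
  have hn1 := stalkTensorIsoS_naturality_left z ((Scheme.Modules.pullback p).map φ) K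
  have hn2 : (stalkSh Z z).map ((Scheme.Modules.pullback p).map φ) ≫
      (stalkPullbackIso p z).hom.app M = (stalkPullbackIso p z).hom.app M' ≫
        (ModuleCat.extendScalars.{u, u, u} (p.stalkMap z).hom).map ((stalkSh X (p z)).map φ) :=
    (stalkPullbackIso p z).hom.naturality φ
  haveI hm1 : Mono ((stalkSh X (p z)).map φ) :=
    (inferInstance : (stalkSh X (p z)).PreservesMonomorphisms).preserves φ
  have hm2 : Mono ((ModuleCat.extendScalars.{u, u, u} (p.stalkMap z).hom).map
      ((stalkSh X (p z)).map φ) ▷ (stalkSh Z z).obj K) :=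
    mono_extendScalars_whiskerRight (p.stalkMap z).hom _ hKz _
  have e1 : (stalkSh Z z).map ((Scheme.Modules.pullback p).map φ) =
      (stalkPullbackIso p z).hom.app M' ≫
        (ModuleCat.extendScalars.{u, u, u} (p.stalkMap z).hom).map ((stalkSh X (p z)).map φ) ≫
          (stalkPullbackIso p z).inv.app M := by
    rw [← Category.assoc, ← hn2, Category.assoc, Iso.hom_inv_id_app]
    exact (Category.comp_id _).symm
  have hm3 : Mono ((stalkSh Z z).map ((Scheme.Modules.pullback p).map φ) ▷
      (stalkSh Z z).obj K) := by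
    rw [e1, MonoidalCategory.comp_whiskerRight, MonoidalCategory.comp_whiskerRight]
    haveI := hm2
    infer_instance
  have hm4 : Mono ((stalkSh Z z).map
      ((DCoh.tensorBi.map ((Scheme.Modules.pullback p).map φ)).app K) ≫
      (stalkTensorIsoS Z z _ K).hom) := by
    rw [hn1]
    haveI := hm3
    infer_instance
  exact @mono_of_mono _ _ _ _ _ _ _ hm4

end Geo

section FM

variable {X Y Z : Scheme.{u}} (p₁ : Z ⟶ X) (p₂ : Z ⟶ Y) (K : Z.Modules)

/-- the functor `M ↦ p₁^* M ⊗ K` -/
noncomputable abbrev TK : X.Modules ⥤ Z.Modules :=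
  Scheme.Modules.pullback p₁ ⋙ DCoh.tensorRightMod K

instance : (Scheme.Modules.pullback p₁).Additive :=
  (Scheme.Modules.pullbackPushforwardAdjunction p₁).left_adjoint_additive

theorem shortExact_map_TK (hK : FlatMod.IsFlatOver p₁ K) (S : ShortComplex X.Modules)
    (hS : S.ShortExact) : (S.map (TK p₁ K)).ShortExact := by
  haveI := isLeftAdjoint_tensorRightMod K
  haveI : PreservesFiniteColimits (TK p₁ K) := by
    haveI : PreservesColimitsOfSize.{u, u} (Scheme.Modules.pullback p₁) :=
      (Scheme.Modules.pullbackPushforwardAdjunction p₁).leftAdjoint_preservesColimits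
    haveI : PreservesColimitsOfSize.{u, u} (DCoh.tensorRightMod K) :=
      (Adjunction.ofIsLeftAdjoint (DCoh.tensorRightMod K)).leftAdjoint_preservesColimits
    infer_instance
  haveI := hS.mono_f
  haveI : Mono ((TK p₁ K).map S.f) := mono_tensor_pullback_of_isFlatOver p₁ K hK S.f
  obtain ⟨hex, hepi⟩ :=
    (Functor.preservesFiniteColimits_iff_forall_exact_map_and_epi (TK p₁ K)).1 inferInstance S hS
  haveI := hepi
  exact ShortComplex.ShortExact.mk' hex ‹_› ‹_›

variable [HasInjectiveResolutions Z.Modules]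

/-- **the Fourier–Mukai functor of a kernel flat over `X` preserves a short exact sequence whose
first term has vanishing `R¹`** -/
theorem shortExact_map_FM (hK : FlatMod.IsFlatOver p₁ K) (S : ShortComplex X.Modules)
    (hS : S.ShortExact)
    (hz : IsZero ((Coh.Rpush p₂ 1).obj ((TK p₁ K).obj S.X₁))) :
    (S.map (TK p₁ K ⋙ Coh.push p₂)).ShortExact := by
  have h1 := shortExact_map_TK p₁ K hK S hS
  haveI : (Scheme.Modules.pushforward p₂).IsRightAdjoint :=
    (Scheme.Modules.pullbackPushforwardAdjunction p₂).isRightAdjoint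
  obtain ⟨Δ⟩ := Groth.Agent.S16463.result (Scheme.Modules.pushforward p₂)
  exact Groth.Agent.Helper1.LowDeg.shortExact_map (Scheme.Modules.pushforward p₂) Δ _ _
    (S.map (TK p₁ K)).zero h1 hz

/-- the Fourier–Mukai functor of a kernel flat over `X` preserves monomorphisms -/
theorem mono_map_FM (hK : FlatMod.IsFlatOver p₁ K) {M' M : X.Modules} (φ : M' ⟶ M) [Mono φ] :
    Mono ((TK p₁ K ⋙ Coh.push p₂).map φ) := by
  haveI : (Scheme.Modules.pushforward p₂).IsRightAdjoint :=
    (Scheme.Modules.pullbackPushforwardAdjunction p₂).isRightAdjoint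
  haveI : Mono ((TK p₁ K).map φ) := mono_tensor_pullback_of_isFlatOver p₁ K hK φ
  exact inferInstanceAs (Mono ((Scheme.Modules.pushforward p₂).map ((TK p₁ K).map φ)))

/-- **exactness of the Fourier–Mukai functor on quasi-coherent modules** -/
theorem preserves_FM (hK : FlatMod.IsFlatOver p₁ K)
    (hKa : ∀ M : X.Modules, M.IsQuasicoherent →
      IsZero ((Coh.Rpush p₂ 1).obj ((TK p₁ K).obj M))) :
    PreservesFiniteLimits ((QCohCat.isQCoh X).ι ⋙ TK p₁ K ⋙ Coh.push p₂) ∧
      PreservesFiniteColimits ((QCohCat.isQCoh X).ι ⋙ TK p₁ K ⋙ Coh.push p₂) := by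
  letI : Abelian (QCohCat.isQCoh X).FullSubcategory := inferInstanceAs (Abelian (QCoh X))
  haveI : PreservesFiniteLimits (QCohCat.isQCoh X).ι :=
    inferInstanceAs (PreservesFiniteLimits (qc X).ι)
  haveI : PreservesFiniteColimits (QCohCat.isQCoh X).ι :=
    inferInstanceAs (PreservesFiniteColimits (qc X).ι)
  haveI : (QCohCat.isQCoh X).ι.Additive := inferInstanceAs (qc X).ι.Additive
  have key : ∀ S : ShortComplex (QCohCat.isQCoh X).FullSubcategory, S.ShortExact →
      (S.map ((QCohCat.isQCoh X).ι ⋙ TK p₁ K ⋙ Coh.push p₂)).ShortExact := fun S hS => by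
    have hS' : (S.map (QCohCat.isQCoh X).ι).ShortExact := hS.map_of_exact _
    exact shortExact_map_FM p₁ p₂ K hK (S.map (QCohCat.isQCoh X).ι) hS' (hKa _ S.X₁.property)
  constructor
  · rw [Functor.preservesFiniteLimits_iff_forall_exact_map_and_mono]
    intro S hS
    exact ⟨(key S hS).exact, (key S hS).mono_f⟩
  · rw [Functor.preservesFiniteColimits_iff_forall_exact_map_and_epi]
    intro S hS
    exact ⟨(key S hS).exact, (key S hS).epi_g⟩

end FM

end Groth.Agent.Lib.Helper5.FMQ
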