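import Mathlib
import Groth.Prelude.Def_Coh
import Groth.Agent.Lib.Helper3.LerayCol5
import Groth.Agent.Lib.Helper5.ProperPush.ModLeray
import Groth.Agent.Lib.Helper5.RpushCl.RpushClassic
import Groth.Agent.Lib.Helper5.Perf.LocalCoh
import Groth.Agent.Lib.Helper1.CohACC

/-!
# A vanishing criterion for higher direct images through affine morphisms (helper5)

If `g : W ⟶ B` is quasi-compact quasi-separated, `h : B ⟶ Y` and `v : W ⟶ Z` are affine,
`p : Z ⟶ Y` satisfies `v ≫ p = g ≫ h`, and `E` is quasi-coherent on `W` with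
`R^n p_* (v_* E) = 0`, then `R^n g_* E = 0`.
-/
set_option autoImplicit false
set_option linter.unusedSectionVars false
set_option linter.unusedVariables false
set_option linter.style.haveILetI false
universe u
open CategoryTheory CategoryTheory.Limits AlgebraicGeometry TopologicalSpace Opposite

namespace Groth.Agent.Lib.Helper5.FMQ

open Groth.Agent.Helper1 Groth.Agent.Helper3

/-- a quasi-coherent module whose direct image along an affine morphism vanishes is zero -/
theorem isZero_of_isZero_push_affine {B Y : Scheme.{u}} (h : B ⟶ Y) [IsAffineHom h]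
    (N : B.Modules) [N.IsQuasicoherent]
    (hz : IsZero ((Scheme.Modules.pushforward h).obj N)) : IsZero N := by
  refine CohACC.isZero_of_affine_cover N (fun V : Y.affineOpens => h ⁻¹ᵁ V.1)
    (fun V => IsAffineHom.isAffine_preimage (f := h) V.1 V.2) ?_ ?_
  · rw [eq_top_iff]
    intro x _
    obtain ⟨V, hV, hxV, -⟩ := (Opens.isBasis_iff_nbhd.mp Y.isBasis_affineOpens)
      (show h.base x ∈ (⊤ : Y.Opens) from trivial)
    exact Opens.mem_iSup.2 ⟨⟨V, hV⟩, hxV⟩
  · intro V s
    haveI : Subsingleton Γ((Scheme.Modules.pushforward h).obj N, V.1) :=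
      Groth.Agent.Lib.Helper5.LocalCoh.subsingleton_sections_of_isZero _ hz V.1
    exact Subsingleton.elim (α := Γ((Scheme.Modules.pushforward h).obj N, V.1)) s 0

variable {W B Y Z : Scheme.{u}}

/-- **vanishing of a higher direct image through affine morphisms** -/
theorem isZero_rpush_of_affine_square (g : W ⟶ B) [QuasiCompact g] [QuasiSeparated g]
    (h : B ⟶ Y) [IsAffineHom h] (v : W ⟶ Z) [IsAffineHom v] (p : Z ⟶ Y)
    (comm : v ≫ p = g ≫ h)
    [HasInjectiveResolutions W.Modules] [HasInjectiveResolutions Z.Modules]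
    (E : W.Modules) [E.IsQuasicoherent] (n : ℕ)
    (hv : IsZero ((Coh.Rpush p n).obj ((Scheme.Modules.pushforward v).obj E))) :
    IsZero ((Coh.Rpush g n).obj E) := by
  -- `N = R^n g_* E` is quasi-coherent
  haveI : ((Coh.Rpush g n).obj E).IsQuasicoherent :=
    Groth.Agent.Lib.Helper5.RpushClassic.isQuasicoherent_rpush g E n
  apply isZero_of_isZero_push_affine h
  apply RpushComp.isZero_of_toAb
  -- `R^n (v ≫ p)_* E = 0`
  obtain ⟨e2⟩ := Groth.Agent.Lib.Helper5.ModLeray.nonempty_rpush_comp v p E n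
  have h1 : IsZero ((Coh.Rpush (v ≫ p) n).obj E) := IsZero.of_iso hv e2
  have h2 : IsZero ((Coh.Rpush (g ≫ h) n).obj E) := by
    rw [← comm]
    exact h1
  obtain ⟨e3⟩ := RpushComp.nonempty_iso (g ≫ h) E n
  have h3 : IsZero ((Coh.RpushAb (g ≫ h) n).obj (Coh.toAb E)) :=
    IsZero.of_iso ((SheafOfModules.toSheaf Y.ringCatSheaf).map_isZero h2) e3.symm
  -- Leray
  obtain ⟨e1⟩ : Nonempty ((Coh.RpushAb (g ≫ h) n).obj (Coh.toAb E) ≅
      (Coh.pushAb h).obj ((Coh.RpushAb g n).obj (Coh.toAb E))) := by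
    refine LerayCol4.nonempty_iso_col g.base h.base (Coh.toAb E) ?_ n
    intro q j hj
    obtain ⟨m, rfl⟩ : ∃ m, j = m + 1 := ⟨j - 1, by omega⟩
    exact LerayCol5.isZero_rpushAb_rpushAb g h E q m
  have h4 : IsZero ((Coh.pushAb h).obj ((Coh.RpushAb g n).obj (Coh.toAb E))) :=
    IsZero.of_iso h3 e1.symm
  obtain ⟨e4⟩ := RpushComp.nonempty_iso g E n
  have h5 : IsZero ((Coh.pushAb h).obj (Coh.toAb ((Coh.Rpush g n).obj E))) :=
    IsZero.of_iso h4 ((Coh.pushAb h).mapIso e4)
  exact IsZero.of_iso h5 ((RpushComp.pushIso h).app ((Coh.Rpush g n).obj E))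

end Groth.Agent.Lib.Helper5.FMQ
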