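import Mathlib
import Groth.Prelude.Def_Coh
import Groth.Prelude.Def_DCoh3
import Groth.Agent.Lib.Helper5.Stalk.RpushSupp
import Groth.Agent.Lib.Helper5.RpushCl.RpushClassic
import Groth.Agent.Lib.Helper5.QC.RpushBound

/-!
# Vanishing of a higher direct image of `O`-modules is local on the base (helper5)
-/
set_option autoImplicit false
set_option linter.unusedSectionVars false
set_option linter.unusedVariables false
set_option linter.style.haveILetI false
universe u
open CategoryTheory CategoryTheory.Limits AlgebraicGeometry TopologicalSpace Opposite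
attribute [local instance] HasDerivedCategory.standard

namespace Groth.Agent.Lib.Helper5.FMQ

open Groth.Agent.Helper3.KInjDer Groth.Agent.Lib.Helper5.RpushRes
  Groth.Agent.Lib.Helper5.RpushSupp Groth.Agent.Lib.Helper5.RpushClassic

variable {W B : Scheme.{u}}

/-- the restriction of `R^n g_* E` to an open `V` of the base is `R^n (g|_V)_* (E|_{g⁻¹ V})` -/
theorem nonempty_rpush_restrict_iso (g : W ⟶ B) [HasInjectiveResolutions W.Modules]
    (V : B.Opens) [HasInjectiveResolutions ((g ⁻¹ᵁ V : W.Opens) : Scheme.{u}).Modules]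
    (E : W.Modules) (n : ℕ) :
    Nonempty (((Coh.Rpush g n).obj E).restrict V.ι ≅
      (Coh.Rpush (g ∣_ V) n).obj (E.restrict (g ⁻¹ᵁ V).ι)) := by
  haveI : DCoh.HasRpush g := hasRightDerivedFunctor (DCoh.pushKh g)
  haveI : DCoh.HasRpush (g ∣_ V) := hasRightDerivedFunctor (DCoh.pushKh (g ∣_ V))
  let e1 : ((Coh.Rpush g n).obj E).restrict V.ι ≅
      (DCoh.HD ((DCoh.Rpush g).obj (DCoh.inD W E)) (n : ℤ)).restrict V.ι :=
    (Scheme.Modules.restrictFunctor V.ι).mapIso (rpushIsoHD g E n)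
  let e2 := hdRestrictDIso ((DCoh.Rpush g).obj (DCoh.inD W E)) V (n : ℤ)
  let e3 := (rpushRestrictIso g V).app (DCoh.inD W E)
  let e4 : (DCoh.restrictD (g ⁻¹ᵁ V).ι).obj (DCoh.inD W E) ≅
      DCoh.inD _ (E.restrict (g ⁻¹ᵁ V).ι) :=
    ((Scheme.Modules.restrictFunctor (g ⁻¹ᵁ V).ι).mapDerivedCategorySingleFunctor 0).app E
  let e5 := rpushIsoHD (g ∣_ V) (E.restrict (g ⁻¹ᵁ V).ι) n
  exact ⟨e1 ≪≫ e2 ≪≫ (DerivedCategory.homologyFunctor _ (n : ℤ)).mapIso
    (e3 ≪≫ (DCoh.Rpush (g ∣_ V)).mapIso e4) ≪≫ e5.symm⟩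

/-- **vanishing of a higher direct image is local on the base** -/
theorem isZero_rpush_of_cover (g : W ⟶ B) [HasInjectiveResolutions W.Modules]
    (E : W.Modules) (n : ℕ) {ι : Type*} (V : ι → B.Opens) (hV : ⨆ j, V j = ⊤)
    [∀ j, HasInjectiveResolutions ((g ⁻¹ᵁ V j : W.Opens) : Scheme.{u}).Modules]
    (h : ∀ j, IsZero ((Coh.Rpush (g ∣_ V j) n).obj (E.restrict (g ⁻¹ᵁ V j).ι))) :
    IsZero ((Coh.Rpush g n).obj E) := by
  apply Groth.Agent.Lib.Helper5.QC.isZero_of_cover _ V hV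
  intro j
  obtain ⟨e⟩ := nonempty_rpush_restrict_iso g (V j) E n
  exact IsZero.of_iso (h j) e

end Groth.Agent.Lib.Helper5.FMQ
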