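import Mathlib
import Groth.Prelude.Def_Coh
import Groth.Agent.Lib.Helper5.FMQ.LerayA
import Groth.Agent.Lib.Helper5.FMQ.RpushLocal
import Groth.Agent.Lib.Helper5.FMQ.AffPush
import Groth.Agent.Lib.Helper5.KunAD.Basic
import Groth.Agent.Lib.Lead.PullTensorAll
import Groth.Agent.Lib.Lead.TilT4
import Groth.Agent.Lib.Helper1.PushQc
import Groth.Agent.Lib.Helper1.QcPullGen
import Groth.Agent.Lib.Helper3.LerayCol2

/-!
# Vanishing of `R^q pr_{13,*}(pr_{12}^* F ⊗ pr_{23}^* K)` for an acyclic kernel `K` (helper5)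
-/
set_option autoImplicit false
set_option linter.unusedSectionVars false
set_option linter.unusedVariables false
set_option linter.style.haveILetI false
set_option backward.isDefEq.respectTransparency.types false
universe u
open CategoryTheory CategoryTheory.Limits AlgebraicGeometry TopologicalSpace

namespace Groth.Agent.Lib.Helper5.FMQ

open Groth.Agent.Lib.Helper5.BC Groth.Agent.Lib.Helper5.ProjF Groth.Agent.Lib.Helper5.FBC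

variable {S T X Y TX Z W B : Scheme.{u}}
  {fT : T ⟶ S} {fX : X ⟶ S} {fY : Y ⟶ S}
  {tT : TX ⟶ T} {a : TX ⟶ X} {p₁ : Z ⟶ X} {p₂ : Z ⟶ Y}
  {pr₁₂ : W ⟶ TX} {pr₂₃ : W ⟶ Z} {bT : B ⟶ T} {bY : B ⟶ Y} {pr₁₃ : W ⟶ B}

/-- `T ×_S X ×_S Y` is the fibre product of `T ×_S Y` and `X ×_S Y` over `Y` -/
theorem isPullback_pr13 (sTX : IsPullback tT a fT fX) (sZ : IsPullback p₁ p₂ fX fY)
    (sW : IsPullback pr₁₂ pr₂₃ a p₁) (sB : IsPullback bT bY fT fY)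
    (h₁ : pr₁₃ ≫ bT = pr₁₂ ≫ tT) (h₂ : pr₁₃ ≫ bY = pr₂₃ ≫ p₂) :
    IsPullback pr₁₃ pr₂₃ bY p₂ := by
  have Q1 : IsPullback (pr₁₂ ≫ tT) pr₂₃ fT (p₁ ≫ fX) := sW.paste_horiz sTX
  have Q1' : IsPullback (pr₁₃ ≫ bT) pr₂₃ fT (p₂ ≫ fY) := by
    rw [h₁, ← sZ.w]
    exact Q1
  exact IsPullback.of_right Q1' h₂ sB

/-- the projection from the part of a product over an affine open of the first factor is affine -/
theorem isAffineHom_restrict_comp [IsAffine S] (sB : IsPullback bT bY fT fY) (U : T.Opens)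
    (hU : IsAffineOpen U) : IsAffineHom ((bT ⁻¹ᵁ U).ι ≫ bY) := by
  haveI : IsAffine (U : Scheme.{u}) := hU
  have s : IsPullback (bT ∣_ U) ((bT ⁻¹ᵁ U).ι ≫ bY) (U.ι ≫ fT) fY :=
    (isPullback_morphismRestrict bT U).paste_vert sB
  exact MorphismProperty.of_isPullback (P := @IsAffineHom) s inferInstance

/-- the local statement, over an affine open `U` of `T` -/
theorem isZero_rpush_pr13_local [IsAffine S] (sTX : IsPullback tT a fT fX)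
    (sZ : IsPullback p₁ p₂ fX fY) (sW : IsPullback pr₁₂ pr₂₃ a p₁) (sB : IsPullback bT bY fT fY)
    (h₁ : pr₁₃ ≫ bT = pr₁₂ ≫ tT) (h₂ : pr₁₃ ≫ bY = pr₂₃ ≫ p₂)
    [QuasiCompact fX] [QuasiSeparated fX]
    [HasInjectiveResolutions Z.Modules]
    (K : Z.Modules) [K.IsQuasicoherent]
    (hKac : ∀ (G : X.Modules), G.IsQuasicoherent → ∀ q : ℕ, 0 < q →
      IsZero ((Coh.Rpush p₂ q).obj (CohB1.tensorMod ((Scheme.Modules.pullback p₁).obj G) K)))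
    (F : TX.Modules) [F.IsQuasicoherent] (q : ℕ) (hq : 0 < q)
    (U : T.Opens) (hU : IsAffineOpen U)
    [HasInjectiveResolutions ((pr₁₃ ⁻¹ᵁ (bT ⁻¹ᵁ U) : W.Opens) : Scheme.{u}).Modules] :
    IsZero ((Coh.Rpush (pr₁₃ ∣_ (bT ⁻¹ᵁ U)) q).obj
      ((CohB1.tensorMod ((Scheme.Modules.pullback pr₁₂).obj F)
        ((Scheme.Modules.pullback pr₂₃).obj K)).restrict (pr₁₃ ⁻¹ᵁ (bT ⁻¹ᵁ U)).ι)) := by
  have P1 := isPullback_pr13 sTX sZ sW sB h₁ h₂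
  -- `p₂` and `pr₁₃` are quasi-compact and quasi-separated
  haveI : QuasiCompact p₂ := MorphismProperty.of_isPullback (P := @QuasiCompact) sZ inferInstance
  haveI : QuasiSeparated p₂ := MorphismProperty.of_isPullback (P := @QuasiSeparated) sZ inferInstance
  haveI : QuasiCompact pr₁₃ :=
    MorphismProperty.of_isPullback (P := @QuasiCompact) P1.flip inferInstance
  haveI : QuasiSeparated pr₁₃ :=
    MorphismProperty.of_isPullback (P := @QuasiSeparated) P1.flip inferInstance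
  -- the restricted square
  have R1 := isPullback_morphismRestrict pr₁₃ (bT ⁻¹ᵁ U)
  haveI : QuasiCompact (pr₁₃ ∣_ (bT ⁻¹ᵁ U)) :=
    MorphismProperty.of_isPullback (P := @QuasiCompact) R1.flip inferInstance
  haveI : QuasiSeparated (pr₁₃ ∣_ (bT ⁻¹ᵁ U)) :=
    MorphismProperty.of_isPullback (P := @QuasiSeparated) R1.flip inferInstance
  haveI hh : IsAffineHom ((bT ⁻¹ᵁ U).ι ≫ bY) := isAffineHom_restrict_comp sB U hU
  have R3 : IsPullback (pr₁₃ ∣_ (bT ⁻¹ᵁ U)) ((pr₁₃ ⁻¹ᵁ (bT ⁻¹ᵁ U)).ι ≫ pr₂₃)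
      ((bT ⁻¹ᵁ U).ι ≫ bY) p₂ := R1.paste_vert P1
  haveI hv : IsAffineHom ((pr₁₃ ⁻¹ᵁ (bT ⁻¹ᵁ U)).ι ≫ pr₂₃) :=
    MorphismProperty.of_isPullback (P := @IsAffineHom) R3 hh
  -- the restricted module is quasi-coherent
  haveI : ((Scheme.Modules.pullback pr₁₂).obj F).IsQuasicoherent :=
    Groth.Agent.Helper1.QcPullGen.isQuasicoherent_pullback pr₁₂ F
  haveI : ((Scheme.Modules.pullback pr₂₃).obj K).IsQuasicoherent :=
    Groth.Agent.Helper1.QcPullGen.isQuasicoherent_pullback pr₂₃ K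
  -- the chart on `TX`
  haveI ha : IsAffineHom ((tT ⁻¹ᵁ U).ι ≫ a) := isAffineHom_restrict_comp sTX U hU
  have hW : pr₁₃ ⁻¹ᵁ (bT ⁻¹ᵁ U) = pr₁₂ ⁻¹ᵁ (tT ⁻¹ᵁ U) := by
    rw [← Scheme.Hom.comp_preimage, ← Scheme.Hom.comp_preimage, h₁]
  let θ := W.isoOfEq hW
  have hθ : θ.hom ≫ (pr₁₂ ⁻¹ᵁ (tT ⁻¹ᵁ U)).ι = (pr₁₃ ⁻¹ᵁ (bT ⁻¹ᵁ U)).ι :=
    Scheme.isoOfEq_hom_ι W hW
  let u : ((pr₁₃ ⁻¹ᵁ (bT ⁻¹ᵁ U) : W.Opens) : Scheme.{u}) ⟶ ((tT ⁻¹ᵁ U : TX.Opens) : Scheme.{u}) :=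
    θ.hom ≫ (pr₁₂ ∣_ (tT ⁻¹ᵁ U))
  have hu : u ≫ (tT ⁻¹ᵁ U).ι = (pr₁₃ ⁻¹ᵁ (bT ⁻¹ᵁ U)).ι ≫ pr₁₂ := by
    change (θ.hom ≫ (pr₁₂ ∣_ (tT ⁻¹ᵁ U))) ≫ (tT ⁻¹ᵁ U).ι = _
    rw [Category.assoc, morphismRestrict_ι, ← Category.assoc, hθ]
  have R4' : IsPullback (pr₁₂ ∣_ (tT ⁻¹ᵁ U)) ((pr₁₂ ⁻¹ᵁ (tT ⁻¹ᵁ U)).ι ≫ pr₂₃)
      ((tT ⁻¹ᵁ U).ι ≫ a) p₁ := (isPullback_morphismRestrict pr₁₂ (tT ⁻¹ᵁ U)).paste_vert sW
  have R4 : IsPullback u ((pr₁₃ ⁻¹ᵁ (bT ⁻¹ᵁ U)).ι ≫ pr₂₃) ((tT ⁻¹ᵁ U).ι ≫ a) p₁ := by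
    refine IsPullback.of_iso R4' θ.symm (Iso.refl _) (Iso.refl _) (Iso.refl _) ?_ ?_ ?_ ?_
    · change (pr₁₂ ∣_ (tT ⁻¹ᵁ U)) ≫ 𝟙 _ = θ.inv ≫ θ.hom ≫ (pr₁₂ ∣_ (tT ⁻¹ᵁ U))
      rw [Category.comp_id, Iso.inv_hom_id_assoc]
    · change ((pr₁₂ ⁻¹ᵁ (tT ⁻¹ᵁ U)).ι ≫ pr₂₃) ≫ 𝟙 _ = θ.inv ≫ (pr₁₃ ⁻¹ᵁ (bT ⁻¹ᵁ U)).ι ≫ pr₂₃
      rw [Category.comp_id, ← hθ, Category.assoc, Iso.inv_hom_id_assoc]
    · simp
    · simp
  -- the modules
  let FU : ((tT ⁻¹ᵁ U : TX.Opens) : Scheme.{u}).Modules :=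
    (Scheme.Modules.pullback (tT ⁻¹ᵁ U).ι).obj F
  haveI : FU.IsQuasicoherent :=
    Groth.Agent.Helper1.QcPullGen.isQuasicoherent_pullback (tT ⁻¹ᵁ U).ι F
  haveI : QuasiCompact ((tT ⁻¹ᵁ U).ι ≫ a) := inferInstance
  haveI : QuasiSeparated ((tT ⁻¹ᵁ U).ι ≫ a) := inferInstance
  let G : X.Modules := (Scheme.Modules.pushforward ((tT ⁻¹ᵁ U).ι ≫ a)).obj FU
  haveI hG : G.IsQuasicoherent :=
    Groth.Agent.Helper1.PushQc.isQuasicoherent_pushforward ((tT ⁻¹ᵁ U).ι ≫ a) FU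
  haveI : ((Scheme.Modules.pullback u).obj FU).IsQuasicoherent :=
    Groth.Agent.Helper1.QcPullGen.isQuasicoherent_pullback u FU
  let ι' := (pr₁₃ ⁻¹ᵁ (bT ⁻¹ᵁ U)).ι
  let v := (pr₁₃ ⁻¹ᵁ (bT ⁻¹ᵁ U)).ι ≫ pr₂₃
  let E := CohB1.tensorMod ((Scheme.Modules.pullback pr₁₂).obj F)
    ((Scheme.Modules.pullback pr₂₃).obj K)
  -- `E|_{W'} ≅ u^* F_U ⊗ v^* K`
  obtain ⟨t1⟩ := Groth.Agent.Lead.PullTensorAll.nonempty_pullback_tensor_iso ι'
    ((Scheme.Modules.pullback pr₁₂).obj F) ((Scheme.Modules.pullback pr₂₃).obj K)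
  let c1 : (Scheme.Modules.pullback ι').obj ((Scheme.Modules.pullback pr₁₂).obj F) ≅
      (Scheme.Modules.pullback u).obj FU :=
    (Scheme.Modules.pullbackComp ι' pr₁₂).app F ≪≫
      (Scheme.Modules.pullbackCongr hu.symm).app F ≪≫
      ((Scheme.Modules.pullbackComp u (tT ⁻¹ᵁ U).ι).app F).symm
  let c2 : (Scheme.Modules.pullback ι').obj ((Scheme.Modules.pullback pr₂₃).obj K) ≅
      (Scheme.Modules.pullback v).obj K :=
    (Scheme.Modules.pullbackComp ι' pr₂₃).app K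
  let eE : E.restrict ι' ≅ CohB1.tensorMod ((Scheme.Modules.pullback u).obj FU)
      ((Scheme.Modules.pullback v).obj K) :=
    (Scheme.Modules.restrictFunctorIsoPullback ι').app E ≪≫ t1 ≪≫
      Groth.Agent.Lead.TilT.tensorModCongr c1 c2
  -- the projection formula and base change
  haveI : IsIso (piMap v ((Scheme.Modules.pullback u).obj FU) K) :=
    isIso_piMap_of_isAffineHom v ((Scheme.Modules.pullback u).obj FU) K
  haveI : IsIso ((bcM R4.w).app FU) := isIso_bcM_app R4 FU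
  let e2 : (Scheme.Modules.pushforward v).obj (CohB1.tensorMod ((Scheme.Modules.pullback u).obj FU)
      ((Scheme.Modules.pullback v).obj K)) ≅
      CohB1.tensorMod ((Scheme.Modules.pushforward v).obj ((Scheme.Modules.pullback u).obj FU)) K :=
    (asIso (piMap v ((Scheme.Modules.pullback u).obj FU) K)).symm
  let e3 : CohB1.tensorMod ((Scheme.Modules.pushforward v).obj ((Scheme.Modules.pullback u).obj FU)) K ≅
      CohB1.tensorMod ((Scheme.Modules.pullback p₁).obj G) K :=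
    Groth.Agent.Lead.TilT.tensorModCongr (asIso ((bcM R4.w).app FU)).symm (Iso.refl K)
  let eAll : (Scheme.Modules.pushforward v).obj (E.restrict ι') ≅
      CohB1.tensorMod ((Scheme.Modules.pullback p₁).obj G) K :=
    (Scheme.Modules.pushforward v).mapIso eE ≪≫ e2 ≪≫ e3
  haveI : (E.restrict ι').IsQuasicoherent := by
    haveI : (CohB1.tensorMod ((Scheme.Modules.pullback u).obj FU)
        ((Scheme.Modules.pullback v).obj K)).IsQuasicoherent := by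
      haveI : ((Scheme.Modules.pullback v).obj K).IsQuasicoherent :=
        Groth.Agent.Helper1.QcPullGen.isQuasicoherent_pullback v K
      exact Groth.Agent.Lead.TilT.isQuasicoherent_tensorMod _ _
    exact Groth.Agent.Helper1.QcAbel.isQuasicoherent_of_iso eE.symm
  haveI := Groth.Agent.Helper3.LerayCol.hasInjectiveResolutions
    ((pr₁₃ ⁻¹ᵁ (bT ⁻¹ᵁ U) : W.Opens) : Scheme.{u})
  refine isZero_rpush_of_affine_square (pr₁₃ ∣_ (bT ⁻¹ᵁ U)) ((bT ⁻¹ᵁ U).ι ≫ bY) v p₂ R3.w.symm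
    (E.restrict ι') q ?_
  exact IsZero.of_iso (hKac G hG q hq) ((Coh.Rpush p₂ q).mapIso eAll)

/-- **vanishing of `R^q pr_{13,*}(pr_{12}^* F ⊗ pr_{23}^* K)`** for a kernel `K` all of whose
Fourier–Mukai transforms of quasi-coherent modules are acyclic -/
theorem isZero_rpush_pr13 [IsAffine S] (sTX : IsPullback tT a fT fX)
    (sZ : IsPullback p₁ p₂ fX fY) (sW : IsPullback pr₁₂ pr₂₃ a p₁) (sB : IsPullback bT bY fT fY)
    (h₁ : pr₁₃ ≫ bT = pr₁₂ ≫ tT) (h₂ : pr₁₃ ≫ bY = pr₂₃ ≫ p₂)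
    [QuasiCompact fX] [QuasiSeparated fX]
    [HasInjectiveResolutions Z.Modules] [HasInjectiveResolutions W.Modules]
    (K : Z.Modules) [K.IsQuasicoherent]
    (hKac : ∀ (G : X.Modules), G.IsQuasicoherent → ∀ q : ℕ, 0 < q →
      IsZero ((Coh.Rpush p₂ q).obj (CohB1.tensorMod ((Scheme.Modules.pullback p₁).obj G) K)))
    (F : TX.Modules) [F.IsQuasicoherent] (q : ℕ) (hq : 0 < q) :
    IsZero ((Coh.Rpush pr₁₃ q).obj
      (CohB1.tensorMod ((Scheme.Modules.pullback pr₁₂).obj F)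
        ((Scheme.Modules.pullback pr₂₃).obj K))) := by
  haveI : ∀ j : T.affineOpens, HasInjectiveResolutions
      ((pr₁₃ ⁻¹ᵁ (bT ⁻¹ᵁ j.1) : W.Opens) : Scheme.{u}).Modules :=
    fun j => Groth.Agent.Helper3.LerayCol.hasInjectiveResolutions _
  refine isZero_rpush_of_cover pr₁₃ _ q (fun j : T.affineOpens => bT ⁻¹ᵁ j.1) ?_ (fun j => ?_)
  · rw [eq_top_iff]
    intro x _
    obtain ⟨V, hV, hxV, -⟩ := (Opens.isBasis_iff_nbhd.mp T.isBasis_affineOpens)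
      (show bT.base x ∈ (⊤ : T.Opens) from trivial)
    exact Opens.mem_iSup.2 ⟨⟨V, hV⟩, hxV⟩
  · exact isZero_rpush_pr13_local sTX sZ sW sB h₁ h₂ K hKac F q hq j.1 j.2

end Groth.Agent.Lib.Helper5.FMQ
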