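import Mathlib

/-!
# Coproducts of short exact sequences and the comparison map of a functor (helper5)

Abstract lemmas: in an abelian category with exact coproducts, coproducts of short exact sequences
are short exact; a criterion for the coproduct comparison map of an additive functor to be a
monomorphism / an epimorphism.
-/
set_option autoImplicit false
universe v' u' v'' u''
open CategoryTheory CategoryTheory.Limits

namespace Groth.Agent.Lib.Helper5.FMQ

section Abstract

variable {A : Type u'} [Category.{v'} A] [Abelian A]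

/-- exactness in a functor category can be checked pointwise -/
theorem exact_of_evaluation {K : Type*} [Category K] (T : ShortComplex (K ⥤ A))
    (h : ∀ k, (T.map ((evaluation K A).obj k)).Exact) : T.Exact := by
  rw [ShortComplex.exact_iff_isZero_homology, Functor.isZero_iff]
  intro k
  exact IsZero.of_iso ((ShortComplex.exact_iff_isZero_homology _).1 (h k))
    (T.mapHomologyIso ((evaluation K A).obj k)).symm

variable {J : Type*}

/-- the short complex of discrete diagrams attached to a family of short complexes -/
noncomputable def famSC (S : J → ShortComplex A) : ShortComplex (Discrete J ⥤ A) :=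
  ShortComplex.mk
    (Discrete.natTrans (F := Discrete.functor fun j => (S j).X₁)
      (G := Discrete.functor fun j => (S j).X₂) fun j => (S j.as).f)
    (Discrete.natTrans (F := Discrete.functor fun j => (S j).X₂)
      (G := Discrete.functor fun j => (S j).X₃) fun j => (S j.as).g)
    (by ext j; simp)

theorem shortExact_famSC (S : J → ShortComplex A) (hS : ∀ j, (S j).ShortExact) :
    (famSC S).ShortExact := by
  haveI : Mono (famSC S).f := by
    rw [NatTrans.mono_iff_mono_app]
    intro j
    exact (hS j.as).mono_f
  haveI : Epi (famSC S).g := by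
    rw [NatTrans.epi_iff_epi_app]
    intro j
    exact (hS j.as).epi_g
  exact ShortComplex.ShortExact.mk' (exact_of_evaluation _ (fun j => (hS j.as).exact)) ‹_› ‹_›

variable [HasCoproductsOfShape J A] [HasExactColimitsOfShape (Discrete J) A]

theorem sigmaMap_comp_eq_zero (S : J → ShortComplex A) :
    Limits.Sigma.map (fun j => (S j).f) ≫ Limits.Sigma.map (fun j => (S j).g) = 0 := by
  apply Sigma.hom_ext
  intro j
  simp

/-- **a coproduct of short exact sequences is short exact** (exact coproducts) -/
theorem shortExact_sigma (S : J → ShortComplex A) (hS : ∀ j, (S j).ShortExact) :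
    (ShortComplex.mk (Limits.Sigma.map fun j => (S j).f) (Limits.Sigma.map fun j => (S j).g)
      (sigmaMap_comp_eq_zero S)).ShortExact := by
  haveI : PreservesFiniteColimits (colim : (Discrete J ⥤ A) ⥤ A) := by
    haveI := (colimConstAdj (J := Discrete J) (C := A)).leftAdjoint_preservesColimits
    infer_instance
  exact (shortExact_famSC S hS).map_of_exact colim

/-- a coproduct of monomorphisms is a monomorphism (exact coproducts) -/
theorem mono_sigmaMap {f g : J → A} (η : ∀ j, f j ⟶ g j) [∀ j, Mono (η j)] :
    Mono (Limits.Sigma.map η) := by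
  haveI : Mono (Discrete.natTrans (F := Discrete.functor f) (G := Discrete.functor g)
      fun j => η j.as) := by
    rw [NatTrans.mono_iff_mono_app]
    intro j
    exact inferInstanceAs (Mono (η j.as))
  exact inferInstanceAs (Mono (colim.map (Discrete.natTrans (F := Discrete.functor f)
    (G := Discrete.functor g) fun j => η j.as)))

end Abstract

section Chase

variable {B : Type u'} [Category.{v'} B] [Abelian B]

/-- a variant of the four lemma -/
theorem epi_τ₁_of_shortExact {S₁ S₂ : ShortComplex B} (φ : S₁ ⟶ S₂) (h₁ : S₁.ShortExact)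
    [Mono S₂.f] [IsIso φ.τ₂] [Mono φ.τ₃] : Epi φ.τ₁ := by
  haveI := h₁.mono_f
  have hz : (S₂.f ≫ inv φ.τ₂) ≫ S₁.g = 0 := by
    rw [← cancel_mono φ.τ₃, zero_comp, Category.assoc, Category.assoc, ← φ.comm₂₃,
      IsIso.inv_hom_id_assoc, S₂.zero]
  have ht : h₁.exact.lift (S₂.f ≫ inv φ.τ₂) hz ≫ S₁.f = S₂.f ≫ inv φ.τ₂ :=
    h₁.exact.lift_f _ _
  have hsplit : h₁.exact.lift (S₂.f ≫ inv φ.τ₂) hz ≫ φ.τ₁ = 𝟙 _ := by
    rw [← cancel_mono S₂.f, Category.assoc, φ.comm₁₂, ← Category.assoc, ht, Category.assoc,
      IsIso.inv_hom_id, Category.comp_id, Category.id_comp]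
  exact epi_of_epi_fac hsplit

end Chase

section Comparison

variable {𝒜 : Type u'} [Category.{v'} 𝒜] [Abelian 𝒜] {ℬ : Type u''} [Category.{v''} ℬ] [Abelian ℬ]
  {J : Type*} [HasCoproductsOfShape J 𝒜] [HasCoproductsOfShape J ℬ]
  [HasExactColimitsOfShape (Discrete J) ℬ] (G : 𝒜 ⥤ ℬ) [G.PreservesZeroMorphisms]

/-- naturality of the coproduct comparison map in the family -/
theorem sigmaComparison_natural {N C : J → 𝒜} (η : ∀ j, N j ⟶ C j) :
    sigmaComparison G N ≫ G.map (Limits.Sigma.map η) =
      Limits.Sigma.map (fun j => G.map (η j)) ≫ sigmaComparison G C := by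
  apply Sigma.hom_ext
  intro j
  rw [ι_comp_sigmaComparison_assoc, Sigma.ι_map_assoc, ι_comp_sigmaComparison, ← G.map_comp,
    ← G.map_comp, Sigma.ι_map]

/-- the comparison map of a composite -/
theorem sigmaComparison_comp {𝒞 : Type*} [Category 𝒞] [HasCoproductsOfShape J 𝒞] (H : 𝒞 ⥤ 𝒜)
    (V : J → 𝒞) :
    sigmaComparison (H ⋙ G) V =
      sigmaComparison G (fun j => H.obj (V j)) ≫ G.map (sigmaComparison H V) := by
  apply Sigma.hom_ext
  intro j
  have h1 := ι_comp_sigmaComparison (H ⋙ G) V j
  have h2 := ι_comp_sigmaComparison G (fun j => H.obj (V j)) j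
  have h3 := ι_comp_sigmaComparison H V j
  rw [h1]
  have h4 : Sigma.ι (fun b => (H ⋙ G).obj (V b)) j ≫
      (sigmaComparison G fun j => H.obj (V j)) ≫ G.map (sigmaComparison H V) =
      G.map (Sigma.ι (fun j => H.obj (V j)) j) ≫ G.map (sigmaComparison H V) := by
    rw [← Category.assoc]
    exact congrArg (· ≫ G.map (sigmaComparison H V)) h2
  rw [h4, ← G.map_comp, h3]
  rfl

/-- **the comparison map is a monomorphism** if the family embeds, compatibly with `G`, into a
family whose coproduct is preserved by `G` -/
theorem mono_sigmaComparison {N C : J → 𝒜} (η : ∀ j, N j ⟶ C j) [∀ j, Mono (G.map (η j))]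
    [IsIso (sigmaComparison G C)] : Mono (sigmaComparison G N) := by
  haveI : Mono (Limits.Sigma.map fun j => G.map (η j)) := mono_sigmaMap _
  haveI : Mono (sigmaComparison G N ≫ G.map (Limits.Sigma.map η)) := by
    rw [sigmaComparison_natural]
    infer_instance
  exact mono_of_mono _ (G.map (Limits.Sigma.map η))

/-- **the comparison map is an epimorphism** -/
theorem epi_sigmaComparison (S : J → ShortComplex 𝒜) (hG : ∀ j, ((S j).map G).ShortExact)
    [Mono (G.map (Limits.Sigma.map fun j => (S j).f))]
    [IsIso (sigmaComparison G fun j => (S j).X₂)] [Mono (sigmaComparison G fun j => (S j).X₃)] :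
    Epi (sigmaComparison G fun j => (S j).X₁) := by
  have h₁ := shortExact_sigma (fun j => (S j).map G) hG
  have hz : G.map (Limits.Sigma.map fun j => (S j).f) ≫ G.map (Limits.Sigma.map fun j => (S j).g) = 0 := by
    rw [← G.map_comp, Limits.Sigma.map_comp_map]
    have : (fun j => (S j).f ≫ (S j).g) = fun j => (0 : (S j).X₁ ⟶ (S j).X₃) := by
      funext j
      exact (S j).zero
    rw [this]
    have h0 : Limits.Sigma.map (fun j => (0 : (S j).X₁ ⟶ (S j).X₃)) = 0 := by
      apply Sigma.hom_ext
      intro j
      simp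
    rw [h0, G.map_zero]
  let S₂ : ShortComplex ℬ := ShortComplex.mk _ _ hz
  let φ : ShortComplex.mk (Limits.Sigma.map fun j => ((S j).map G).f)
      (Limits.Sigma.map fun j => ((S j).map G).g) (sigmaMap_comp_eq_zero _) ⟶ S₂ :=
    { τ₁ := sigmaComparison G fun j => (S j).X₁
      τ₂ := sigmaComparison G fun j => (S j).X₂
      τ₃ := sigmaComparison G fun j => (S j).X₃
      comm₁₂ := sigmaComparison_natural G (fun j => (S j).f)
      comm₂₃ := sigmaComparison_natural G (fun j => (S j).g) }
  haveI : Mono S₂.f := ‹Mono (G.map (Limits.Sigma.map fun j => (S j).f))›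
  haveI : IsIso φ.τ₂ := ‹IsIso (sigmaComparison G fun j => (S j).X₂)›
  haveI : Mono φ.τ₃ := ‹Mono (sigmaComparison G fun j => (S j).X₃)›
  exact epi_τ₁_of_shortExact φ h₁

end Comparison

end Groth.Agent.Lib.Helper5.FMQ
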