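import Mathlib
import Groth.Agent.Lib.Helper5.FMQ.FlatExact
import Groth.Agent.Lib.Helper5.FMQ.SigmaExact
import Groth.Agent.Lib.Helper5.Stalk.Faithful
import Groth.Agent.Lib.Helper3.ModGroth
import Groth.Agent.Lib.Helper1.QcAbel
import Groth.Agent.Lib.Helper1.PushQc

/-!
# The Fourier–Mukai functor of a flat, acyclic kernel commutes with direct sums (helper5)
-/
set_option autoImplicit false
set_option linter.unusedSectionVars false
set_option linter.unusedVariables false
set_option linter.style.haveILetI false
set_option backward.isDefEq.respectTransparency.types false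
universe u
open CategoryTheory CategoryTheory.Limits AlgebraicGeometry

namespace Groth.Agent.Lib.Helper5.FMQ

open Groth.Agent.Lib.Helper5.StalkAdj

section Cover

/-- a quasi-compact scheme receives a flat surjective morphism from an affine scheme -/
theorem exists_affine_flat_surjective (X : Scheme.{u}) [CompactSpace X] :
    ∃ (U : Scheme.{u}) (u : U ⟶ X), IsAffine U ∧ Flat u ∧ Surjective u := by
  let 𝒰 := X.affineCover.finiteSubcover
  haveI : ∀ i, IsAffine (𝒰.X i) := fun i => by dsimp [𝒰]; infer_instance
  let g : (∐ 𝒰.X) ⟶ X := Sigma.desc 𝒰.f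
  haveI : Flat g := by dsimp [g]; infer_instance
  haveI : Surjective g := by dsimp [g]; infer_instance
  exact ⟨∐ 𝒰.X, g, inferInstance, inferInstance, inferInstance⟩

/-- a morphism from an affine scheme to a scheme with affine diagonal over an affine base is
affine -/
theorem isAffineHom_of_isAffine_of_diagonal {U X S₀ : Scheme.{u}} [IsAffine U] [IsAffine S₀]
    (u : U ⟶ X) (a : X ⟶ S₀) [IsAffineHom (pullback.diagonal a)] : IsAffineHom u := by
  haveI : MorphismProperty.HasOfPostcompProperty @IsAffineHom
      (MorphismProperty.diagonal @IsAffineHom) :=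
    MorphismProperty.hasOfPostcompProperty_iff_le_diagonal.mpr le_rfl
  have h1 : IsAffineHom (u ≫ a) := isAffineHom_of_isAffine _
  exact MorphismProperty.of_postcomp (W := @IsAffineHom)
    (W' := MorphismProperty.diagonal @IsAffineHom) u a
    (show IsAffineHom (pullback.diagonal a) from inferInstance) h1

end Cover

section Cat

/-- if `F` and `F ⋙ G` preserve the colimit of `K`, then `G` preserves the colimit of `K ⋙ F` -/
theorem preservesColimit_comp_of {C D E : Type*} [Category C] [Category D] [Category E]
    {J : Type*} [Category J] (K : J ⥤ C) (F : C ⥤ D) (G : D ⥤ E) [HasColimit K]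
    [PreservesColimit K F] [PreservesColimit K (F ⋙ G)] : PreservesColimit (K ⋙ F) G := by
  apply preservesColimit_of_preserves_colimit_cocone
    (isColimitOfPreserves F (colimit.isColimit K))
  exact isColimitOfPreserves (F ⋙ G) (colimit.isColimit K)

end Cat

section Main

variable {X Y S₀ : Scheme.{u}} (a : X ⟶ S₀) (b : Y ⟶ S₀)
  (K : (pullback a b).Modules) [K.IsQuasicoherent]

/-- the Fourier–Mukai functor on all modules -/
noncomputable abbrev FMt : X.Modules ⥤ Y.Modules :=
  TK (pullback.fst a b) K ⋙ Coh.push (pullback.snd a b)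

/-- the Fourier–Mukai functor composed with the direct image from an affine scheme preserves
colimits of quasi-coherent modules -/
theorem preservesColimit_push_comp_FM [IsAffine S₀] {U : Scheme.{u}} [IsAffine U] (u : U ⟶ X)
    [IsAffineHom u] {J : Type u} [SmallCategory J] (D : J ⥤ QCohCat.QCoh U) :
    PreservesColimit D ((QCohCat.isQCoh U).ι ⋙ Coh.push u ⋙ FMt a b K) := by
  let g : pullback (u ≫ a) b ⟶ pullback a b :=
    pullback.map (u ≫ a) b a b u (𝟙 Y) (𝟙 S₀) (by simp) (by simp)
  have hg₁ : g ≫ pullback.fst a b = pullback.fst (u ≫ a) b ≫ u := pullback.lift_fst _ _ _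
  have hg₂ : g ≫ pullback.snd a b = pullback.snd (u ≫ a) b :=
    (pullback.lift_snd _ _ _).trans (Category.comp_id _)
  obtain ⟨e⟩ := nonempty_push_comp_FM_iso a b K u g hg₁ hg₂
  haveI : IsAffineHom (u ≫ a) := isAffineHom_of_isAffine _
  haveI : IsAffineHom (pullback.snd (u ≫ a) b) := MorphismProperty.pullback_snd _ _ ‹_›
  haveI : ((Scheme.Modules.pullback g).obj K).IsQuasicoherent :=
    Groth.Agent.Lead.PB.isQuasicoherent_pullback g K
  haveI := preservesColimit_FM (pullback.fst (u ≫ a) b) (pullback.snd (u ≫ a) b)
    ((Scheme.Modules.pullback g).obj K) D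
  exact preservesColimit_of_natIso D e.symm

/-- the Fourier–Mukai functor preserves the coproduct of the family `u_* u^* N_j` -/
theorem isIso_sigmaComparison_cover [IsAffine S₀] {U : Scheme.{u}} [IsAffine U] (u : U ⟶ X)
    [IsAffineHom u] {J : Type u} (N : J → X.Modules) (hN : ∀ j, (N j).IsQuasicoherent) :
    IsIso (sigmaComparison (FMt a b K)
      (fun j => (Scheme.Modules.pushforward u).obj ((Scheme.Modules.pullback u).obj (N j)))) := by
  haveI : IsGrothendieckAbelian.{u} Y.Modules :=
    Groth.Agent.Helper3.ModGroth.isGrothendieckAbelian _ Y.ringCatSheaf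
  let V : J → U.Modules := fun j => (Scheme.Modules.pullback u).obj (N j)
  have hV : ∀ j, (V j).IsQuasicoherent := fun j => by
    haveI := hN j
    exact Groth.Agent.Lead.PB.isQuasicoherent_pullback u (N j)
  let D'' : Discrete J ⥤ QCohCat.QCoh U := Discrete.functor (fun j => ⟨V j, hV j⟩)
  haveI : CreatesColimit D'' (QCohCat.isQCoh U).ι :=
    createsColimitFullSubcategoryInclusion D''
      (isQuasicoherent_colimit (D'' ⋙ (QCohCat.isQCoh U).ι) (fun j => (D''.obj j).property))
  haveI : HasColimit D'' := hasColimit_of_created D'' (QCohCat.isQCoh U).ι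
  haveI h1 : PreservesColimit D'' ((QCohCat.isQCoh U).ι ⋙ Coh.push u ⋙ FMt a b K) :=
    preservesColimit_push_comp_FM a b K u D''
  haveI h2 : PreservesColimit D'' (QCohCat.isQCoh U).ι := preservesColimit_ι D''
  haveI h3 : PreservesColimit (D'' ⋙ (QCohCat.isQCoh U).ι) (Coh.push u ⋙ FMt a b K) :=
    preservesColimit_comp_of D'' (QCohCat.isQCoh U).ι (Coh.push u ⋙ FMt a b K)
  let eD : D'' ⋙ (QCohCat.isQCoh U).ι ≅ Discrete.functor V :=
    Discrete.natIso (fun j => Iso.refl _)
  haveI h4 : PreservesColimit (Discrete.functor V) (Coh.push u ⋙ FMt a b K) :=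
    preservesColimit_of_iso_diagram _ eD
  haveI h5 : PreservesColimit (Discrete.functor V) (Coh.push u) :=
    Groth.Agent.Lib.Helper5.DirImg.preservesColimit_pushforward u _ (fun j => hV j.as)
  have hc := sigmaComparison_comp (FMt a b K) (Coh.push u) V
  haveI i1 : IsIso (sigmaComparison (Coh.push u ⋙ FMt a b K) V) := inferInstance
  haveI i2 : IsIso (sigmaComparison (Coh.push u) V) := inferInstance
  haveI i3 : IsIso ((FMt a b K).map (sigmaComparison (Coh.push u) V)) := inferInstance
  rw [hc] at i1
  exact IsIso.of_isIso_comp_right _ ((FMt a b K).map (sigmaComparison (Coh.push u) V))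

variable [HasInjectiveResolutions (pullback a b).Modules]

/-- **the Fourier–Mukai functor of a flat, acyclic kernel commutes with direct sums of
quasi-coherent modules** -/
theorem isIso_sigmaComparison_FM [IsAffine S₀] [CompactSpace X]
    [IsAffineHom (pullback.diagonal a)]
    (hK : FlatMod.IsFlatOver (pullback.fst a b) K)
    (hKa : ∀ M : X.Modules, M.IsQuasicoherent →
      IsZero ((Coh.Rpush (pullback.snd a b) 1).obj ((TK (pullback.fst a b) K).obj M)))
    {J : Type u} (N : J → X.Modules) (hN : ∀ j, (N j).IsQuasicoherent) :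
    IsIso (sigmaComparison (FMt a b K) N) := by
  haveI : IsGrothendieckAbelian.{u} X.Modules :=
    Groth.Agent.Helper3.ModGroth.isGrothendieckAbelian _ X.ringCatSheaf
  haveI : IsGrothendieckAbelian.{u} Y.Modules :=
    Groth.Agent.Helper3.ModGroth.isGrothendieckAbelian _ Y.ringCatSheaf
  obtain ⟨U, u, hU, hfl, hsurj⟩ := exists_affine_flat_surjective X
  haveI := hU
  haveI := hfl
  haveI := hsurj
  haveI : IsAffineHom u := isAffineHom_of_isAffine_of_diagonal u a
  haveI : (Scheme.Modules.pullback u).Faithful := pullback_faithful u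
  let η : ∀ M : X.Modules, M ⟶
      (Scheme.Modules.pushforward u).obj ((Scheme.Modules.pullback u).obj M) :=
    fun M => (Scheme.Modules.pullbackPushforwardAdjunction u).unit.app M
  have hmono : ∀ M : X.Modules, Mono (η M) := fun M =>
    inferInstanceAs (Mono ((Scheme.Modules.pullbackPushforwardAdjunction u).unit.app M))
  have hqC : ∀ M : X.Modules, M.IsQuasicoherent →
      ((Scheme.Modules.pushforward u).obj ((Scheme.Modules.pullback u).obj M)).IsQuasicoherent :=
    fun M hM => by
      haveI := hM
      haveI : ((Scheme.Modules.pullback u).obj M).IsQuasicoherent :=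
        Groth.Agent.Lead.PB.isQuasicoherent_pullback u M
      exact Groth.Agent.Helper1.PushQc.isQuasicoherent_pushforward u _
  have step1 : ∀ (N' : J → X.Modules), (∀ j, (N' j).IsQuasicoherent) →
      Mono (sigmaComparison (FMt a b K) N') := by
    intro N' hN'
    haveI : ∀ j, Mono ((FMt a b K).map (η (N' j))) := fun j => by
      haveI := hmono (N' j)
      exact mono_map_FM _ _ K hK _
    haveI : IsIso (sigmaComparison (FMt a b K)
        (fun j => (Scheme.Modules.pushforward u).obj ((Scheme.Modules.pullback u).obj (N' j)))) :=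
      isIso_sigmaComparison_cover a b K u N' hN'
    exact mono_sigmaComparison (FMt a b K) (fun j => η (N' j))
  haveI hepi : Epi (sigmaComparison (FMt a b K) N) := by
    let S : J → ShortComplex X.Modules := fun j =>
      ShortComplex.mk (η (N j)) (cokernel.π (η (N j))) (cokernel.condition _)
    have hS : ∀ j, (S j).ShortExact := fun j => by
      haveI : Mono (S j).f := hmono (N j)
      haveI : Epi (S j).g := inferInstanceAs (Epi (cokernel.π (η (N j))))
      exact ShortComplex.ShortExact.mk' (ShortComplex.exact_cokernel _) ‹_› ‹_›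
    have hG : ∀ j, ((S j).map (FMt a b K)).ShortExact := fun j =>
      shortExact_map_FM _ _ K hK (S j) (hS j) (hKa _ (hN j))
    haveI : ∀ j, Mono (S j).f := fun j => hmono (N j)
    haveI : Mono (Limits.Sigma.map fun j => (S j).f) := mono_sigmaMap _
    haveI : Mono ((FMt a b K).map (Limits.Sigma.map fun j => (S j).f)) :=
      mono_map_FM _ _ K hK _
    haveI : IsIso (sigmaComparison (FMt a b K) fun j => (S j).X₂) :=
      isIso_sigmaComparison_cover a b K u N hN
    haveI : Mono (sigmaComparison (FMt a b K) fun j => (S j).X₃) :=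
      step1 _ (fun j => by
        haveI := hN j
        haveI := hqC _ (hN j)
        exact Groth.Agent.Helper1.QcAbel.isQuasicoherent_cokernel (η (N j)))
    exact epi_sigmaComparison (FMt a b K) S hG
  haveI := step1 N hN
  exact isIso_of_mono_of_epi _

/-- the statement for diagrams -/
theorem preservesColimit_discrete_FM [IsAffine S₀] [CompactSpace X]
    [IsAffineHom (pullback.diagonal a)]
    (hK : FlatMod.IsFlatOver (pullback.fst a b) K)
    (hKa : ∀ M : X.Modules, M.IsQuasicoherent →
      IsZero ((Coh.Rpush (pullback.snd a b) 1).obj ((TK (pullback.fst a b) K).obj M)))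
    {J : Type u} (D : Discrete J ⥤ QCohCat.QCoh X) :
    PreservesColimit D ((QCohCat.isQCoh X).ι ⋙ FMt a b K) := by
  let N : J → X.Modules := fun j => (D.obj ⟨j⟩).obj
  have hN : ∀ j, (N j).IsQuasicoherent := fun j => (D.obj ⟨j⟩).property
  haveI := isIso_sigmaComparison_FM a b K hK hKa N hN
  haveI h1 : PreservesColimit (Discrete.functor N) (FMt a b K) :=
    PreservesCoproduct.of_iso_comparison _ _
  let eD : D ⋙ (QCohCat.isQCoh X).ι ≅ Discrete.functor N :=
    Discrete.natIso (fun j => Iso.refl _)
  haveI h2 : PreservesColimit (D ⋙ (QCohCat.isQCoh X).ι) (FMt a b K) :=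
    preservesColimit_of_iso_diagram _ eD.symm
  haveI h3 := preservesColimit_ι D
  infer_instance

end Main

end Groth.Agent.Lib.Helper5.FMQ
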